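import Groth.Agent.Lib.Helper5.Lambda
import Mathlib.RingTheory.PowerSeries.Substitution
import Mathlib.RingTheory.PowerSeries.WellKnown

/-!
γ-operations as the substitution t ↦ t/(1-t) in the λ-series (helper5).
-/

universe u

open PowerSeries Finset

namespace Groth.Agent.Lib.Helper5

open LambdaRing

/-- the power series t/(1-t) -/
noncomputable def bS (K : Type u) [CommRing K] : K⟦X⟧ := X * mk 1

theorem hasSubst_bS (K : Type u) [CommRing K] : HasSubst (bS K) :=
  HasSubst.of_constantCoeff_zero' (by simp [bS])

theorem bS_pow_coeff (K : Type u) [CommRing K] (k d : ℕ) :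
    coeff k (bS K ^ d) = if d = 0 then (if k = 0 then 1 else 0)
      else if d ≤ k then (((k - 1).choose (d - 1) : ℕ) : K) else 0 := by
  rcases d with _ | e
  · simp [coeff_one]
  · rw [bS, mul_pow, mk_one_pow_eq_mk_choose_add, coeff_X_pow_mul']
    simp only [Nat.succ_ne_zero, if_false, coeff_mk]
    split_ifs with h
    · congr 2; omega
    · rfl

variable {K : Type u} [CommRing K] [LambdaOps K]

/-- the γ-series -/
noncomputable def gammaSeries (x : K) : K⟦X⟧ := mk fun k => gamma k x

theorem gammaSeries_eq_subst (x : K) :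
    gammaSeries x = substAlgHom (hasSubst_bS K) (lamSeries x) := by
  ext k
  rw [coe_substAlgHom, coeff_subst' (hasSubst_bS K)]
  rw [finsum_eq_sum_of_support_subset _ (s := range (k + 1)) ?_]
  · simp only [gammaSeries, coeff_mk, lamSeries, bS_pow_coeff, smul_eq_mul]
    rcases k with _ | k
    · simp [gamma, LambdaOps.lam_zero]
    · rw [gamma, if_neg (Nat.succ_ne_zero k)]
      apply Finset.sum_congr rfl
      intro d hd
      have hd' : d ≤ k + 1 := by
        have := Finset.mem_range.mp hd
        omega
      rcases d with _ | d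
      · simp
      · simp only [Nat.succ_ne_zero, if_false, if_pos hd', Nat.add_sub_cancel]
        ring
  · intro d hd
    rw [Function.mem_support] at hd
    simp only [Finset.coe_range, Set.mem_Iio]
    by_contra h
    apply hd
    rw [bS_pow_coeff]
    have h1 : d ≠ 0 := by omega
    have h2 : ¬ d ≤ k := by omega
    simp [h1, h2]

theorem gammaSeries_add (x y : K) : gammaSeries (x + y) = gammaSeries x * gammaSeries y := by
  rw [gammaSeries_eq_subst, gammaSeries_eq_subst, gammaSeries_eq_subst, lamSeries_add, map_mul]

theorem gamma_add' (k : ℕ) (x y : K) :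
    gamma k (x + y) = ∑ i ∈ range (k + 1), gamma i x * gamma (k - i) y := by
  have := congrArg (coeff k) (gammaSeries_add x y)
  rw [coeff_mul, Finset.Nat.sum_antidiagonal_eq_sum_range_succ
    (fun i j => coeff i (gammaSeries x) * coeff j (gammaSeries y))] at this
  simpa [gammaSeries] using this


omit [LambdaOps K] in
theorem substC (a : K) : substAlgHom (hasSubst_bS K) (C a : K⟦X⟧) = C a := by
  have h := (substAlgHom (hasSubst_bS K) (R := K)).commutes a
  rw [PowerSeries.algebraMap_apply] at h
  simpa using h

theorem lamSeries_natCast (P : PosStructure K) (n : ℕ) : lamSeries (n : K) = (1 + X) ^ n := by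
  induction n with
  | zero => simp [lamSeries_zero]
  | succ n ih =>
    rw [Nat.cast_succ, lamSeries_add, ih, lamSeries_line P (isLine_one P), pow_succ, map_one, one_mul]

omit [LambdaOps K] in
theorem one_add_bS : (1 : K⟦X⟧) + bS K = mk 1 := by
  ext n
  rcases n with _ | n
  · simp [bS]
  · rw [map_add, bS, coeff_succ_X_mul]
    simp [coeff_one]

theorem lamSeries_pos_eq (P : PosStructure K) {e : K} (he : e ∈ P.pos) :
    lamSeries e = ∑ i ∈ range ((P.aug e).toNat + 1), C (LambdaOps.lam i e) * X ^ i := by
  have hpos := P.aug_pos e he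
  ext k
  rw [map_sum]
  simp only [coeff_C_mul_X_pow]
  rw [Finset.sum_ite_eq]
  simp only [lamSeries, coeff_mk, Finset.mem_range]
  split_ifs with h
  · rfl
  · apply P.lam_eq_zero e he k
    omega

theorem gamma_sub_aug_series (P : PosStructure K) {e : K} (he : e ∈ P.pos) :
    gammaSeries (e - ((P.aug e).toNat : K)) = ∑ i ∈ range ((P.aug e).toNat + 1),
      C (LambdaOps.lam i e) * X ^ i * (1 - X) ^ ((P.aug e).toNat - i) := by
  set m := (P.aug e).toNat with hm
  have hF : gammaSeries e = gammaSeries (e - (m : K)) * (mk 1) ^ m := by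
    have : e = (e - (m : K)) + (m : K) := by ring
    conv_lhs => rw [this]
    rw [gammaSeries_add, gammaSeries_eq_subst (m : K), lamSeries_natCast P, map_pow, map_add,
      map_one, substAlgHom_X, one_add_bS]
  have hG : gammaSeries (e - (m : K)) = gammaSeries e * (1 - X) ^ m := by
    rw [hF, mul_assoc, ← mul_pow, mk_one_mul_one_sub_eq_one, one_pow, mul_one]
  have hD : gammaSeries e = ∑ i ∈ range (m + 1), C (LambdaOps.lam i e) * (bS K) ^ i := by
    rw [gammaSeries_eq_subst, lamSeries_pos_eq P he, map_sum]
    apply Finset.sum_congr rfl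
    intro i _
    rw [map_mul, map_pow, substC, substAlgHom_X]
  rw [hG, hD, Finset.sum_mul]
  apply Finset.sum_congr rfl
  intro i hi
  have hi' : i ≤ m := by
    have := Finset.mem_range.mp hi
    omega
  have hsplit : (1 - X : K⟦X⟧) ^ m = (1 - X) ^ i * (1 - X) ^ (m - i) := by
    rw [← pow_add, Nat.add_sub_cancel' hi']
  rw [hsplit, bS, mul_pow]
  have h1 : (mk 1 : K⟦X⟧) ^ i * (1 - X) ^ i = 1 := by
    rw [← mul_pow, mk_one_mul_one_sub_eq_one, one_pow]
  calc C (LambdaOps.lam i e) * (X ^ i * mk 1 ^ i) * ((1 - X) ^ i * (1 - X) ^ (m - i))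
      = C (LambdaOps.lam i e) * X ^ i * ((mk 1 : K⟦X⟧) ^ i * (1 - X) ^ i) * (1 - X) ^ (m - i) := by
        ring
    _ = C (LambdaOps.lam i e) * X ^ i * (1 - X) ^ (m - i) := by rw [h1, mul_one]

omit [LambdaOps K] in
theorem reflect_one_sub_X_pow (n : ℕ) :
    Polynomial.reflect n ((1 - Polynomial.X : Polynomial K) ^ n) = (Polynomial.X - 1) ^ n := by
  induction n with
  | zero => simp [Polynomial.reflect_one]
  | succ n ih =>
    have hdeg1 : (1 - Polynomial.X : Polynomial K).natDegree ≤ 1 := by
      apply (Polynomial.natDegree_sub_le _ _).trans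
      simp [Polynomial.natDegree_X_le]
    have hdeg : ((1 - Polynomial.X : Polynomial K) ^ n).natDegree ≤ n := by
      apply (Polynomial.natDegree_pow_le).trans
      calc n * (1 - Polynomial.X : Polynomial K).natDegree ≤ n * 1 := Nat.mul_le_mul_left _ hdeg1
        _ = n := mul_one n
    rw [pow_succ, Polynomial.reflect_mul _ _ hdeg hdeg1, ih, pow_succ]
    congr 1
    rw [Polynomial.reflect_sub, Polynomial.reflect_one, pow_one]
    have : Polynomial.reflect 1 (Polynomial.X : Polynomial K) = 1 := by
      have := Polynomial.reflect_monomial (R := K) 1 1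
      rw [pow_one] at this
      rw [this, Polynomial.revAt_le (le_refl 1), Nat.sub_self, pow_zero]
    rw [this]

omit [LambdaOps K] in
theorem reflect_sum' {ι : Type*} (s : Finset ι) (f : ι → Polynomial K) (N : ℕ) :
    Polynomial.reflect N (∑ i ∈ s, f i) = ∑ i ∈ s, Polynomial.reflect N (f i) := by
  classical
  induction s using Finset.induction_on with
  | empty => simp [Polynomial.reflect_zero]
  | insert a s ha ih => rw [Finset.sum_insert ha, Finset.sum_insert ha, Polynomial.reflect_add, ih]

theorem gamma_sub_aug_identity (P : PosStructure K) (e : K) (he : e ∈ P.pos) :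
    (∑ i ∈ range ((P.aug e).toNat + 1),
        Polynomial.C (gamma i (e - ((P.aug e).toNat : K))) * Polynomial.X ^ ((P.aug e).toNat - i)) =
      ∑ i ∈ range ((P.aug e).toNat + 1),
        Polynomial.C (LambdaOps.lam i e) * (Polynomial.X - 1) ^ ((P.aug e).toNat - i) := by
  set m := (P.aug e).toNat with hm
  set Q : Polynomial K := ∑ i ∈ range (m + 1),
    Polynomial.C (LambdaOps.lam i e) * Polynomial.X ^ i * (1 - Polynomial.X) ^ (m - i) with hQ
  have hQcoe : (Q : K⟦X⟧) = gammaSeries (e - (m : K)) := by
    have hser := gamma_sub_aug_series P he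
    rw [← hm] at hser
    rw [hser, hQ]
    rw [← Polynomial.coeToPowerSeries.ringHom_apply, map_sum]
    apply Finset.sum_congr rfl
    intro i _
    simp [Polynomial.coeToPowerSeries.ringHom_apply, Polynomial.coe_C, Polynomial.coe_X,
      Polynomial.coe_pow, Polynomial.coe_mul]
  have hcoeff : ∀ k, gamma k (e - (m : K)) = Q.coeff k := by
    intro k
    have := congrArg (coeff k) hQcoe
    rw [Polynomial.coeff_coe] at this
    rw [this]
    simp [gammaSeries]
  have hdegQ : Q.natDegree ≤ m := by
    rw [hQ]
    apply Polynomial.natDegree_sum_le_of_forall_le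
    intro i hi
    have hi' : i ≤ m := by
      have := Finset.mem_range.mp hi
      omega
    have hdeg1 : (1 - Polynomial.X : Polynomial K).natDegree ≤ 1 := by
      apply (Polynomial.natDegree_sub_le _ _).trans
      simp [Polynomial.natDegree_X_le]
    calc (Polynomial.C (LambdaOps.lam i e) * Polynomial.X ^ i * (1 - Polynomial.X) ^ (m - i)).natDegree
        ≤ (Polynomial.C (LambdaOps.lam i e) * Polynomial.X ^ i).natDegree
            + ((1 - Polynomial.X : Polynomial K) ^ (m - i)).natDegree := Polynomial.natDegree_mul_le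
      _ ≤ i + (m - i) := by
          apply add_le_add
          · apply (Polynomial.natDegree_C_mul_le _ _).trans
            exact Polynomial.natDegree_X_pow_le i
          · apply (Polynomial.natDegree_pow_le).trans
            calc (m - i) * (1 - Polynomial.X : Polynomial K).natDegree ≤ (m - i) * 1 :=
                Nat.mul_le_mul_left _ hdeg1
              _ = m - i := mul_one _
      _ = m := Nat.add_sub_cancel' hi'
  have hQsum : Q = ∑ k ∈ range (m + 1), Polynomial.C (gamma k (e - (m : K))) * Polynomial.X ^ k := by
    conv_lhs => rw [Polynomial.as_sum_range' Q (m + 1) (by omega)]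
    apply Finset.sum_congr rfl
    intro k _
    rw [hcoeff, Polynomial.C_mul_X_pow_eq_monomial]
  have hL : (∑ i ∈ range (m + 1),
        Polynomial.C (gamma i (e - (m : K))) * Polynomial.X ^ (m - i)) = Polynomial.reflect m Q := by
    rw [hQsum, reflect_sum']
    apply Finset.sum_congr rfl
    intro k hk
    have hk' : k ≤ m := by
      have := Finset.mem_range.mp hk
      omega
    rw [Polynomial.reflect_C_mul_X_pow, Polynomial.revAt_le hk']
  rw [hL, hQ, reflect_sum']
  apply Finset.sum_congr rfl
  intro i hi
  have hi' : i ≤ m := by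
    have := Finset.mem_range.mp hi
    omega
  have hdegXi : (Polynomial.X ^ i : Polynomial K).natDegree ≤ i := Polynomial.natDegree_X_pow_le i
  have hdeg1 : (1 - Polynomial.X : Polynomial K).natDegree ≤ 1 := by
    apply (Polynomial.natDegree_sub_le _ _).trans
    simp [Polynomial.natDegree_X_le]
  have hdegp : ((1 - Polynomial.X : Polynomial K) ^ (m - i)).natDegree ≤ m - i := by
    apply (Polynomial.natDegree_pow_le).trans
    calc (m - i) * (1 - Polynomial.X : Polynomial K).natDegree ≤ (m - i) * 1 :=
        Nat.mul_le_mul_left _ hdeg1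
      _ = m - i := mul_one _
  rw [mul_assoc, Polynomial.reflect_C_mul]
  congr 1
  have hmi : m = i + (m - i) := (Nat.add_sub_cancel' hi').symm
  rw [show Polynomial.reflect m (Polynomial.X ^ i * (1 - Polynomial.X) ^ (m - i))
      = Polynomial.reflect (i + (m - i)) (Polynomial.X ^ i * (1 - Polynomial.X : Polynomial K) ^ (m - i))
      from by rw [← hmi]]
  rw [Polynomial.reflect_mul _ _ hdegXi hdegp, reflect_one_sub_X_pow, Polynomial.reflect_monomial,
    Polynomial.revAt_le (le_refl i), Nat.sub_self, pow_zero, one_mul]

end Groth.Agent.Lib.Helper5
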