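import Groth.Prelude.Def_LambdaRing

/-!
Basic facts on the λ-rings of `Def_LambdaRing` (helper5).
-/

universe u

open PowerSeries Finset

namespace Groth.Agent.Lib.Helper5

open LambdaRing

variable {K : Type u} [CommRing K] [LambdaOps K]

theorem lamSeries_add (x y : K) : lamSeries (x + y) = lamSeries x * lamSeries y := by
  ext k
  rw [lamSeries, coeff_mk, LambdaOps.lam_add, coeff_mul,
    Finset.Nat.sum_antidiagonal_eq_sum_range_succ (fun i j => coeff i (lamSeries x) * coeff j (lamSeries y))]
  simp [lamSeries]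

theorem constantCoeff_lamSeries (x : K) : constantCoeff (lamSeries x) = 1 := by
  rw [← coeff_zero_eq_constantCoeff_apply, lamSeries, coeff_mk, LambdaOps.lam_zero]

/-- inverses in power series rings are unique -/
theorem inv_unique {R : Type*} [CommRing R] {φ ψ ψ' : R⟦X⟧} (h : φ * ψ = 1) (h' : φ * ψ' = 1) :
    ψ = ψ' := by
  calc ψ = ψ * (φ * ψ') := by rw [h', mul_one]
    _ = (φ * ψ) * ψ' := by ring
    _ = ψ' := by rw [h, one_mul]

theorem lamSeries_zero : lamSeries (0 : K) = 1 := by
  have h := lamSeries_add (0 : K) 0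
  rw [add_zero] at h
  have hu : lamSeries (0 : K) * invOfUnit (lamSeries (0 : K)) 1 = 1 :=
    mul_invOfUnit _ _ (by rw [constantCoeff_lamSeries]; rfl)
  calc lamSeries (0 : K) = lamSeries 0 * (lamSeries 0 * invOfUnit (lamSeries (0 : K)) 1) := by
        rw [hu, mul_one]
    _ = (lamSeries 0 * lamSeries 0) * invOfUnit (lamSeries (0 : K)) 1 := by ring
    _ = 1 := by rw [← h, hu]

theorem lam_zero_elt (k : ℕ) (hk : k ≠ 0) : LambdaOps.lam k (0 : K) = 0 := by
  have := congrArg (coeff k) (lamSeries_zero (K := K))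
  rw [lamSeries, coeff_mk, coeff_one, if_neg hk] at this
  exact this

theorem lamSeries_neg_mul (x : K) : lamSeries (-x) * lamSeries x = 1 := by
  rw [← lamSeries_add, neg_add_cancel, lamSeries_zero]

/-- the series λ_{-t}(x) -/
noncomputable abbrev R (x : K) : K⟦X⟧ := rescale (-1 : K) (lamSeries x)

theorem constantCoeff_R (x : K) : constantCoeff (R x) = 1 := by
  rw [← coeff_zero_eq_constantCoeff_apply, R, coeff_rescale, pow_zero, one_mul,
    coeff_zero_eq_constantCoeff_apply, constantCoeff_lamSeries]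

theorem R_add (x y : K) : R (x + y) = R x * R y := by
  rw [R, lamSeries_add, map_mul]

theorem R_mul_inv (x : K) : R x * invOfUnit (R x) 1 = 1 :=
  mul_invOfUnit _ _ (by rw [constantCoeff_R]; rfl)

theorem adamsSeries_eq (P : PosStructure K) (x : K) :
    adamsSeries P x = C (P.aug x : K) - X * derivative K (R x) * invOfUnit (R x) 1 := rfl

theorem adamsSeries_add (P : PosStructure K) (x y : K) :
    adamsSeries P (x + y) = adamsSeries P x + adamsSeries P y := by
  rw [adamsSeries_eq, adamsSeries_eq, adamsSeries_eq]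
  have hinv : invOfUnit (R (x + y)) 1 = invOfUnit (R x) 1 * invOfUnit (R y) 1 := by
    apply inv_unique (R_mul_inv (x + y))
    rw [R_add]
    calc R x * R y * (invOfUnit (R x) 1 * invOfUnit (R y) 1)
        = (R x * invOfUnit (R x) 1) * (R y * invOfUnit (R y) 1) := by ring
      _ = 1 := by rw [R_mul_inv, R_mul_inv, one_mul]
  rw [hinv, R_add, Derivation.leibniz, map_add, Int.cast_add, map_add]
  have h1 := R_mul_inv x
  have h2 := R_mul_inv y
  simp only [smul_eq_mul]
  linear_combination (-(X * derivative K (R y) * invOfUnit (R y) 1)) * h1 +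
    (-(X * derivative K (R x) * invOfUnit (R x) 1)) * h2

theorem adams_add (P : PosStructure K) (j : ℕ) (x y : K) :
    adams P j (x + y) = adams P j x + adams P j y := by
  simp only [adams, adamsSeries_add, map_add]

theorem adams_zero_elt (P : PosStructure K) (j : ℕ) : adams P j (0 : K) = 0 := by
  have h := adams_add P j (0 : K) 0
  rw [add_zero] at h
  linear_combination -h

theorem adams_neg (P : PosStructure K) (j : ℕ) (x : K) : adams P j (-x) = - adams P j x := by
  have h := adams_add P j (-x) x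
  rw [neg_add_cancel, adams_zero_elt] at h
  linear_combination -h

theorem adams_sub (P : PosStructure K) (j : ℕ) (x y : K) :
    adams P j (x - y) = adams P j x - adams P j y := by
  rw [sub_eq_add_neg, adams_add, adams_neg, sub_eq_add_neg]

theorem adams_sum (P : PosStructure K) (j : ℕ) (s : Multiset K) :
    adams P j s.sum = (s.map (adams P j)).sum := by
  induction s using Multiset.induction_on with
  | empty => simp [adams_zero_elt]
  | cons a s ih => simp [adams_add, ih]

/-- λ-series of a line element -/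
theorem lamSeries_line (P : PosStructure K) {u : K} (hu : P.IsLine u) :
    lamSeries u = 1 + C u * X := by
  obtain ⟨hpos, haug⟩ := hu
  ext n
  rcases n with _ | _ | n
  · simp [lamSeries, LambdaOps.lam_zero]
  · simp [lamSeries, LambdaOps.lam_one, coeff_one]
  · rw [lamSeries, coeff_mk, P.lam_eq_zero u hpos (n + 2) (by rw [haug]; omega)]
    simp [coeff_one, coeff_X]

theorem lam_line (P : PosStructure K) {u : K} (hu : P.IsLine u) (n : ℕ) :
    LambdaOps.lam n u = if n = 0 then 1 else if n = 1 then u else 0 := by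
  have := congrArg (coeff n) (lamSeries_line P hu)
  rw [lamSeries, coeff_mk] at this
  rw [this]
  rcases n with _ | _ | n
  · simp
  · simp [coeff_one]
  · simp [coeff_one, coeff_X]

theorem adams_line (P : PosStructure K) {u : K} (hu : P.IsLine u) (j : ℕ) :
    adams P j u = u ^ j := by
  have haug : P.aug u = 1 := hu.2
  have hres : R u = 1 - C u * X := by
    rw [R, lamSeries_line P hu]
    ext n
    rw [coeff_rescale]
    rcases n with _ | _ | n
    · simp
    · simp [coeff_one]
    · simp [coeff_one, coeff_X]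
  set g : K⟦X⟧ := mk (fun k => u ^ k) with hgdef
  have hg : (1 - C u * X) * g = 1 := by
    ext n
    rcases n with _ | n
    · simp [hgdef]
    · rw [sub_mul, one_mul, map_sub, mul_assoc, coeff_C_mul, coeff_succ_X_mul]
      simp [hgdef, coeff_one, pow_succ, mul_comm]
  have hinv : invOfUnit (R u) 1 = g := by
    apply inv_unique (R_mul_inv u)
    rw [hres, hg]
  have hder : derivative K (R u) = - C u := by
    rw [hres]
    simp
  rw [adams, adamsSeries_eq, hinv, haug, hder]
  rcases j with _ | j
  · simp [hgdef]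
  · rw [map_sub, mul_assoc, coeff_succ_X_mul]
    simp [hgdef, pow_succ, mul_comm]

/-! ### maps of λ-rings -/

section maps

variable {K' : Type u} [CommRing K'] [LambdaOps K']

theorem map_lamSeries {f : K →+* K'} (hf : IsLambdaHom f) (x : K) :
    PowerSeries.map f (lamSeries x) = lamSeries (f x) := by
  ext n
  simp [lamSeries, hf n x]

theorem map_R {f : K →+* K'} (hf : IsLambdaHom f) (x : K) :
    PowerSeries.map f (R x) = R (f x) := by
  ext n
  rw [coeff_map, R, R, coeff_rescale, coeff_rescale, map_mul, ← coeff_map, map_lamSeries hf]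
  simp

omit [LambdaOps K] [LambdaOps K'] in
theorem map_derivative (f : K →+* K') (φ : K⟦X⟧) :
    PowerSeries.map f (derivative K φ) = derivative K' (PowerSeries.map f φ) := by
  ext n
  rw [coeff_map, coeff_derivative, coeff_derivative, coeff_map, map_mul]
  simp

theorem map_adamsSeries (P : PosStructure K) (P' : PosStructure K') {f : K →+* K'}
    (hf : IsLambdaHom f) (haug : ∀ x, P'.aug (f x) = P.aug x) (x : K) :
    PowerSeries.map f (adamsSeries P x) = adamsSeries P' (f x) := by
  rw [adamsSeries_eq, adamsSeries_eq]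
  have hinv : PowerSeries.map f (invOfUnit (R x) 1) = invOfUnit (R (f x)) 1 := by
    apply inv_unique (φ := R (f x))
    · rw [← map_R hf, ← map_mul, R_mul_inv, map_one]
    · exact R_mul_inv (f x)
  rw [map_sub, map_mul, map_mul, map_C, map_X, hinv, map_derivative, map_R hf, haug]
  simp

theorem map_adams (P : PosStructure K) (P' : PosStructure K') {f : K →+* K'}
    (hf : IsLambdaHom f) (haug : ∀ x, P'.aug (f x) = P.aug x) (j : ℕ) (x : K) :
    f (adams P j x) = adams P' j (f x) := by
  rw [adams, adams, ← map_adamsSeries P P' hf haug, coeff_map]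

end maps


/-! ### extensions and splitting -/

theorem ext_comp {K₁ K₂ : Type u} [CommRing K₁] [LambdaOps K₁] [CommRing K₂] [LambdaOps K₂]
    {P : PosStructure K} {P₁ : PosStructure K₁} {P₂ : PosStructure K₂} {f : K →+* K₁} {g : K₁ →+* K₂}
    (hf : IsExtension P P₁ f) (hg : IsExtension P₁ P₂ g) : IsExtension P P₂ (g.comp f) where
  isLambdaHom i x := by
    simp only [RingHom.coe_comp, Function.comp_apply]
    rw [hf.isLambdaHom i x, hg.isLambdaHom i (f x)]
  injective := hg.injective.comp hf.injective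
  aug_comp x := by
    simp only [RingHom.coe_comp, Function.comp_apply]
    rw [hg.aug_comp, hf.aug_comp]
  pos_subset e he := hg.pos_subset _ (hf.pos_subset e he)

theorem ext_isLine {K₁ : Type u} [CommRing K₁] [LambdaOps K₁]
    {P : PosStructure K} {P₁ : PosStructure K₁} {f : K →+* K₁}
    (hf : IsExtension P P₁ f) {u : K} (hu : P.IsLine u) : P₁.IsLine (f u) :=
  ⟨hf.pos_subset u hu.1, by rw [hf.aug_comp]; exact hu.2⟩

theorem isLine_mul (P : PosStructure K) {u v : K} (hu : P.IsLine u) (hv : P.IsLine v) :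
    P.IsLine (u * v) :=
  ⟨P.mul_mem u v hu.1 hv.1, by rw [map_mul, hu.2, hv.2, mul_one]⟩

theorem isLine_one (P : PosStructure K) : P.IsLine (1 : K) :=
  ⟨by simpa using P.natCast_mem 1 one_pos, map_one _⟩

theorem isLine_pow (P : PosStructure K) {u : K} (hu : P.IsLine u) (j : ℕ) : P.IsLine (u ^ j) := by
  induction j with
  | zero => simpa using isLine_one P
  | succ j ih => rw [pow_succ]; exact isLine_mul P ih hu

theorem split_one (P : PosStructure K) (hK : HasSplitting K P) {e : K} (he : e ∈ P.pos) :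
    ∃ (L : PosLambdaRing.{u}) (g : K →+* L.carrier), IsExtension P L.posStr g ∧
      ∃ s : Multiset L.carrier, (∀ u ∈ s, L.posStr.IsLine u) ∧ s.sum = g e := by
  obtain ⟨C, hKC, hsplit⟩ := hK
  obtain ⟨L, -, f, hf, s, hs, hsum⟩ := hsplit ⟨K, P⟩ hKC e he
  exact ⟨L, f, hf, s, hs, hsum⟩

theorem split_two (P : PosStructure K) (hK : HasSplitting K P) {e₁ e₂ : K} (he₁ : e₁ ∈ P.pos)
    (he₂ : e₂ ∈ P.pos) :
    ∃ (L : PosLambdaRing.{u}) (g : K →+* L.carrier), IsExtension P L.posStr g ∧
      ∃ s₁ s₂ : Multiset L.carrier, (∀ u ∈ s₁, L.posStr.IsLine u) ∧ (∀ u ∈ s₂, L.posStr.IsLine u) ∧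
        s₁.sum = g e₁ ∧ s₂.sum = g e₂ := by
  obtain ⟨C, hKC, hsplit⟩ := hK
  obtain ⟨L₁, hL₁, f₁, hf₁, s₁, hs₁, hsum₁⟩ := hsplit ⟨K, P⟩ hKC e₁ he₁
  obtain ⟨L₂, -, f₂, hf₂, s₂, hs₂, hsum₂⟩ := hsplit L₁ hL₁ (f₁ e₂) (hf₁.pos_subset e₂ he₂)
  refine ⟨L₂, f₂.comp f₁, ext_comp hf₁ hf₂, s₁.map f₂, s₂, ?_, hs₂, ?_, hsum₂⟩
  · intro u hu
    obtain ⟨v, hv, rfl⟩ := Multiset.mem_map.mp hu
    exact ext_isLine hf₂ (hs₁ v hv)
  · rw [← map_multiset_sum, hsum₁]
    rfl


theorem aug_sum_lines (P : PosStructure K) (s : Multiset K) (hs : ∀ u ∈ s, P.IsLine u) :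
    P.aug s.sum = (Multiset.card s : ℤ) := by
  induction s using Multiset.induction_on with
  | empty => simp
  | cons a s ih =>
    rw [Multiset.sum_cons, map_add, (hs a (Multiset.mem_cons_self a s)).2,
      ih (fun u hu => hs u (Multiset.mem_cons_of_mem hu)), Multiset.card_cons]
    push_cast
    ring

/-- λ^i of a line plus something -/
theorem lam_line_add (P : PosStructure K) {u : K} (hu : P.IsLine u) (y : K) (m : ℕ) :
    LambdaOps.lam (m + 1) (u + y) = LambdaOps.lam (m + 1) y + u * LambdaOps.lam m y := by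
  rw [LambdaOps.lam_add, Finset.sum_range_succ', Finset.sum_range_succ']
  have h0 : ∑ k ∈ range m, LambdaOps.lam (k + 1 + 1) u * LambdaOps.lam (m + 1 - (k + 1 + 1)) y = 0 := by
    apply Finset.sum_eq_zero
    intro k _
    rw [lam_line P hu]
    simp
  rw [h0, lam_line P hu, lam_line P hu]
  simp only [zero_add, one_ne_zero, if_false, if_true, Nat.sub_zero, add_tsub_cancel_right]
  simp
  ring

theorem aug_lam_sum_lines (P : PosStructure K) (s : Multiset K) (hs : ∀ u ∈ s, P.IsLine u)
    (i : ℕ) : P.aug (LambdaOps.lam i s.sum) = ((Multiset.card s).choose i : ℤ) := by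
  induction s using Multiset.induction_on generalizing i with
  | empty =>
    rcases i with _ | i
    · simp [LambdaOps.lam_zero]
    · simp [lam_zero_elt]
  | cons a s ih =>
    have ha := hs a (Multiset.mem_cons_self a s)
    have hs' : ∀ u ∈ s, P.IsLine u := fun u hu => hs u (Multiset.mem_cons_of_mem hu)
    rcases i with _ | i
    · simp [LambdaOps.lam_zero]
    · rw [Multiset.sum_cons, lam_line_add P ha, map_add, map_mul, ha.2, ih hs', ih hs',
        Multiset.card_cons, Nat.choose_succ_succ]
      push_cast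
      ring


theorem adams_sum_lines (P : PosStructure K) (j : ℕ) (s : Multiset K) (hs : ∀ u ∈ s, P.IsLine u) :
    adams P j s.sum = (s.map (· ^ j)).sum := by
  rw [adams_sum]
  congr 1
  apply Multiset.map_congr rfl
  intro u hu
  exact adams_line P (hs u hu) j

theorem adams_mul_sum_lines (P : PosStructure K) (j : ℕ) (s₁ s₂ : Multiset K)
    (hs₁ : ∀ u ∈ s₁, P.IsLine u) (hs₂ : ∀ u ∈ s₂, P.IsLine u) :
    adams P j (s₁.sum * s₂.sum) = adams P j s₁.sum * adams P j s₂.sum := by
  induction s₁ using Multiset.induction_on with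
  | empty => simp [adams_zero_elt]
  | cons u s₁ ih =>
    have hu := hs₁ u (Multiset.mem_cons_self u s₁)
    have hs₁' : ∀ v ∈ s₁, P.IsLine v := fun v hv => hs₁ v (Multiset.mem_cons_of_mem hv)
    rw [Multiset.sum_cons, add_mul, adams_add, adams_add, ih hs₁', add_mul]
    congr 1
    have e1 : u * s₂.sum = (s₂.map (fun v => u * v)).sum := by
      rw [Multiset.sum_map_mul_left, Multiset.map_id']
    rw [e1, adams_sum_lines P j _ (by
      intro w hw
      obtain ⟨v, hv, rfl⟩ := Multiset.mem_map.mp hw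
      exact isLine_mul P hu (hs₂ v hv)), adams_line P hu, adams_sum_lines P j s₂ hs₂,
      Multiset.map_map, ← Multiset.sum_map_mul_left]
    congr 1
    apply Multiset.map_congr rfl
    intro v _
    simp [mul_pow]

theorem adams_mul_pos (P : PosStructure K) (hK : HasSplitting K P) (j : ℕ) {e₁ e₂ : K}
    (he₁ : e₁ ∈ P.pos) (he₂ : e₂ ∈ P.pos) :
    adams P j (e₁ * e₂) = adams P j e₁ * adams P j e₂ := by
  obtain ⟨L, g, hg, s₁, s₂, hs₁, hs₂, h₁, h₂⟩ := split_two P hK he₁ he₂
  apply hg.injective
  rw [map_mul, map_adams P L.posStr hg.isLambdaHom hg.aug_comp,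
    map_adams P L.posStr hg.isLambdaHom hg.aug_comp, map_adams P L.posStr hg.isLambdaHom hg.aug_comp,
    map_mul, ← h₁, ← h₂, adams_mul_sum_lines L.posStr j s₁ s₂ hs₁ hs₂]

theorem adams_mul (P : PosStructure K) (hK : HasSplitting K P) (j : ℕ) (x y : K) :
    adams P j (x * y) = adams P j x * adams P j y := by
  obtain ⟨e₁, f₁, he₁, hf₁, rfl⟩ := P.exists_sub x
  obtain ⟨e₂, f₂, he₂, hf₂, rfl⟩ := P.exists_sub y
  have : (e₁ - f₁) * (e₂ - f₂) = e₁ * e₂ - e₁ * f₂ - (f₁ * e₂ - f₁ * f₂) := by ring
  rw [this, adams_sub, adams_sub, adams_sub, adams_sub, adams_sub,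
    adams_mul_pos P hK j he₁ he₂, adams_mul_pos P hK j he₁ hf₂, adams_mul_pos P hK j hf₁ he₂,
    adams_mul_pos P hK j hf₁ hf₂]
  ring

theorem adams_one (P : PosStructure K) (j : ℕ) : adams P j (1 : K) = 1 := by
  rw [adams_line P (isLine_one P), one_pow]

theorem adams_adams_pos (P : PosStructure K) (hK : HasSplitting K P) (i j : ℕ) {e : K}
    (he : e ∈ P.pos) : adams P i (adams P j e) = adams P (i * j) e := by
  obtain ⟨L, g, hg, s, hs, hsum⟩ := split_one P hK he
  apply hg.injective
  rw [map_adams P L.posStr hg.isLambdaHom hg.aug_comp, map_adams P L.posStr hg.isLambdaHom hg.aug_comp,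
    map_adams P L.posStr hg.isLambdaHom hg.aug_comp, ← hsum, adams_sum_lines L.posStr j s hs,
    adams_sum_lines L.posStr i _ (by
      intro w hw
      obtain ⟨v, hv, rfl⟩ := Multiset.mem_map.mp hw
      exact isLine_pow L.posStr (hs v hv) j), adams_sum_lines L.posStr (i * j) s hs, Multiset.map_map]
  congr 1
  apply Multiset.map_congr rfl
  intro v _
  simp [← pow_mul, mul_comm]

end Groth.Agent.Lib.Helper5
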